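import Mathlib

/-!
Sections of a flat quasi-finite finitely presented algebra `B` over `A` lie, after localisation on `A`,
in the image of a power of an ideal `F` of `A` under an injective map.
-/

universe u

namespace Groth.Agent.QFStratum

open TensorProduct Polynomial

variable {A B : Type u} [CommRing A] [CommRing B] [Algebra A B]

theorem fiber_ker (p : Ideal A) [p.IsPrime] {y : B} (hy : (1 : p.ResidueField) ⊗ₜ[A] y = 0) :
    ∃ s : A, s ∉ p ∧ algebraMap A B s * y ∈ p.map (algebraMap A B) := by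
  letI : Algebra B (p.Fiber B) := Algebra.TensorProduct.rightAlgebra
  have h1 : algebraMap B (p.Fiber B) y = 0 := hy
  have h2 : Ideal.Fiber.algEquivAux₁ p (algebraMap B (p.Fiber B) y) = 0 := by rw [h1, map_zero]
  rw [AlgEquiv.commutes] at h2
  replace h2 : Ideal.Quotient.mk _ (algebraMap B (Localization (Algebra.algebraMapSubmonoid B p.primeCompl)) y) = 0 := h2
  rw [Ideal.Quotient.eq_zero_iff_mem,
    IsLocalization.algebraMap_mem_map_algebraMap_iff (Algebra.algebraMapSubmonoid B p.primeCompl)] at h2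
  obtain ⟨_, ⟨s, hs, rfl⟩, hm⟩ := h2
  exact ⟨s, hs, hm⟩

theorem exists_poly (p : Ideal A) [p.IsPrime] [Algebra.QuasiFinite A B] (x : B) :
    ∃ Q : A[X], Q.leadingCoeff ∉ p ∧ aeval x Q ∈ p.map (algebraMap A B) := by
  haveI : Module.Finite p.ResidueField (p.Fiber B) := Module.Finite.of_quasiFinite
  let z : p.Fiber B := Algebra.TensorProduct.includeRight x
  have h1 : IsAlgebraic p.ResidueField z := (IsIntegral.of_finite p.ResidueField z).isAlgebraic
  have h2 : IsAlgebraic (A ⧸ p) z := (IsFractionRing.isAlgebraic_iff (A ⧸ p) p.ResidueField _).mpr h1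
  obtain ⟨Q₀, hQ₀, hz⟩ := h2
  obtain ⟨Q, hQmap, hdeg⟩ := Polynomial.mem_lifts_and_degree_eq
    (Polynomial.map_surjective (Ideal.Quotient.mk p) Ideal.Quotient.mk_surjective Q₀)
  have hlead : Q.leadingCoeff ∉ p := by
    intro h
    apply hQ₀
    rw [← leadingCoeff_eq_zero, leadingCoeff, natDegree_eq_natDegree hdeg.symm, ← hQmap, coeff_map,
      Ideal.Quotient.eq_zero_iff_mem]
    exact h
  have hz' : aeval z Q = 0 := by
    rw [← hQmap] at hz
    rwa [show Ideal.Quotient.mk p = algebraMap A (A ⧸ p) from rfl, aeval_map_algebraMap] at hz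
  rw [aeval_algHom_apply] at hz'
  obtain ⟨s, hs, hsQ⟩ := fiber_ker p hz'
  refine ⟨C s * Q, ?_, ?_⟩
  · have hne : s * Q.leadingCoeff ∉ p := fun h =>
      (Ideal.IsPrime.mem_or_mem inferInstance h).elim hs hlead
    rwa [leadingCoeff_mul' (by rw [leadingCoeff_C]; exact fun h => hne (h ▸ p.zero_mem)), leadingCoeff_C]
  · rw [map_mul, aeval_C]
    exact hsQ

/-- Step 1: over a suitable basic open of `A` a finitely generated ideal kills `g` and cuts out a finite
stratum. -/
theorem exists_stratum [Algebra.QuasiFinite A B] [Algebra.FiniteType A B] {g : B} (hg : g ≠ 0) :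
    ∃ (f : A) (K : Ideal A), K.FG ∧ (∀ a ∈ K, algebraMap A B (f * a) * g = 0) ∧
      (∀ n : ℕ, algebraMap A B (f ^ n) * g ≠ 0) ∧
      ∀ (A₁ B₁ : Type u) [CommRing A₁] [CommRing B₁] [Algebra A A₁] [Algebra A B₁] [Algebra B B₁]
        [Algebra A₁ B₁] [IsScalarTower A A₁ B₁] [IsScalarTower A B B₁] [IsLocalization.Away f A₁]
        [IsLocalization.Away (algebraMap A B f) B₁],
        Module.Finite (A₁ ⧸ K.map (algebraMap A A₁))
          (B₁ ⧸ (K.map (algebraMap A A₁)).map (algebraMap A₁ B₁)) := by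
  classical
  let J : Ideal A := Ideal.torsionOf A B g
  have hJ : ∀ a, a ∈ J ↔ algebraMap A B a * g = 0 := fun a => by
    rw [Ideal.mem_torsionOf_iff, Algebra.smul_def]
  have hJtop : J ≠ ⊤ := fun h => hg (by
    have := (hJ 1).mp (h ▸ Submodule.mem_top)
    rwa [map_one, one_mul] at this)
  obtain ⟨p, hp⟩ := Ideal.nonempty_minimalPrimes hJtop
  haveI := hp.isPrime
  have hJp : J ≤ p := hp.le
  obtain ⟨gens, hgens⟩ := (Algebra.FiniteType.out : (⊤ : Subalgebra A B).FG)
  choose Q hQl hQ using fun x : B => exists_poly p x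
  have hspan : ∀ x : B, ∃ T : Finset A, (T : Set A) ⊆ p ∧
      aeval x (Q x) ∈ (Ideal.span (T : Set A)).map (algebraMap A B) := by
    intro x
    have h := hQ x
    rw [Ideal.map] at h
    obtain ⟨T', hT', hmem⟩ := Submodule.mem_span_finite_of_mem_span h
    obtain ⟨T, hT, rfl⟩ := Finset.subset_set_image_iff.mp hT'
    refine ⟨T, hT, ?_⟩
    rw [Ideal.map_span, ← Finset.coe_image]
    exact hmem
  choose T hTp hT using hspan
  let I : Ideal A := Ideal.span ((gens.biUnion T : Finset A) : Set A)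
  have hIfg : I.FG := ⟨gens.biUnion T, rfl⟩
  have hTI : ∀ x ∈ gens, aeval x (Q x) ∈ I.map (algebraMap A B) := fun x hx =>
    Ideal.map_mono (Ideal.span_mono (by exact_mod_cast Finset.subset_biUnion_of_mem T hx)) (hT x)
  have hkill : ∀ a ∈ p, ∃ n : ℕ, ∃ s : A, s ∉ p ∧ s * a ^ n ∈ J := by
    intro a ha
    have h := IsLocalization.AtPrime.radical_map_of_mem_minimalPrimes (Localization.AtPrime p) p J hp
    have h1 : algebraMap A (Localization.AtPrime p) a ∈ (J.map (algebraMap A (Localization.AtPrime p))).radical := by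
      rw [h]; exact Ideal.mem_map_of_mem _ ha
    obtain ⟨n, hn⟩ := h1
    rw [← map_pow, IsLocalization.algebraMap_mem_map_algebraMap_iff p.primeCompl] at hn
    obtain ⟨s, hs, hsn⟩ := hn
    exact ⟨n, s, hs, hsn⟩
  have hTsub : ∀ a ∈ gens.biUnion T, a ∈ p := by
    intro a ha
    obtain ⟨x, _, hx⟩ := Finset.mem_biUnion.mp ha
    exact hTp x hx
  choose nn ss hss hnn using hkill
  let Kgens : Finset A := (gens.biUnion T).attach.image fun a => a.1 ^ nn a.1 (hTsub a.1 a.2)
  let K : Ideal A := Ideal.span (Kgens : Set A)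
  let f : A := (∏ a ∈ (gens.biUnion T).attach, ss a.1 (hTsub a.1 a.2)) * ∏ x ∈ gens, (Q x).leadingCoeff
  have hfp : f ∉ p := by
    intro h
    rcases Ideal.IsPrime.mem_or_mem inferInstance h with h | h
    · obtain ⟨a, _, ha⟩ := Ideal.IsPrime.prod_mem_iff.mp h
      exact hss _ _ ha
    · obtain ⟨x, _, hx⟩ := Ideal.IsPrime.prod_mem_iff.mp h
      exact hQl x hx
  have hK : ∀ a ∈ K, f * a ∈ J := by
    intro a ha
    suffices h : K ≤ J.colon ({f} : Set A) by
      have := Submodule.mem_colon_singleton.mp (h ha)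
      rwa [smul_eq_mul, mul_comm] at this
    rw [Ideal.span_le]
    intro b hb
    obtain ⟨c, hc, rfl⟩ := Finset.mem_image.mp hb
    rw [SetLike.mem_coe, Submodule.mem_colon_singleton, smul_eq_mul]
    obtain ⟨r, hr⟩ : ss c.1 (hTsub c.1 c.2) ∣ f :=
      dvd_mul_of_dvd_left (Finset.dvd_prod_of_mem (fun a : {a // a ∈ gens.biUnion T} => ss a.1 (hTsub a.1 a.2)) hc) _
    rw [hr, show c.1 ^ nn c.1 (hTsub c.1 c.2) * (ss c.1 (hTsub c.1 c.2) * r) =
      r * (ss c.1 (hTsub c.1 c.2) * c.1 ^ nn c.1 (hTsub c.1 c.2)) by ring]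
    exact J.mul_mem_left r (hnn _ _)
  have hIK : I ≤ K.radical := by
    rw [Ideal.span_le]
    intro a ha
    exact ⟨nn a (hTsub a ha), Ideal.subset_span (Finset.mem_image.mpr ⟨⟨a, ha⟩, Finset.mem_attach _ _, rfl⟩)⟩
  obtain ⟨N, hN⟩ := Ideal.exists_pow_le_of_le_radical_of_fg hIK hIfg
  refine ⟨f, K, ⟨Kgens, rfl⟩, fun a ha => (hJ _).mp (hK a ha),
    fun n h => hfp (Ideal.IsPrime.mem_of_pow_mem inferInstance n (hJp ((hJ _).mpr h))), ?_⟩
  intro A₁ B₁ _ _ _ _ _ _ _ _ _ _
  let K₁ := K.map (algebraMap A A₁)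
  let L := K₁.map (algebraMap A₁ B₁)
  haveI : IsScalarTower A (A₁ ⧸ K₁) (B₁ ⧸ L) := IsScalarTower.of_algebraMap_eq fun a => by
    show Ideal.Quotient.mk L (algebraMap A B₁ a) = Ideal.Quotient.mk L (algebraMap A₁ B₁ (algebraMap A A₁ a))
    rw [← IsScalarTower.algebraMap_apply]
  let φ : B →ₐ[A] (B₁ ⧸ L) := (Ideal.Quotient.mkₐ A L).comp (IsScalarTower.toAlgHom A B B₁)
  let S : Subalgebra (A₁ ⧸ K₁) (B₁ ⧸ L) := Algebra.adjoin (A₁ ⧸ K₁) (φ '' (gens : Set B))
  have hint : ∀ x ∈ gens, IsIntegral (A₁ ⧸ K₁) (φ x) := by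
    intro x hx
    have hu : IsUnit (algebraMap A (A₁ ⧸ K₁) ((Q x ^ N).leadingCoeff)) := by
      have hd : (Q x).leadingCoeff ∣ f := dvd_mul_of_dvd_right (Finset.dvd_prod_of_mem _ hx) _
      have hne : (Q x).leadingCoeff ^ N ≠ 0 := fun h =>
        hQl x (Ideal.IsPrime.mem_of_pow_mem inferInstance N (h ▸ p.zero_mem))
      rw [leadingCoeff_pow' hne, map_pow]
      refine IsUnit.pow _ ?_
      rw [IsScalarTower.algebraMap_apply A A₁ (A₁ ⧸ K₁)]
      exact (isUnit_of_dvd_unit (map_dvd _ hd) (IsLocalization.Away.algebraMap_isUnit f)).map _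
    let P := (Q x ^ N).map (algebraMap A (A₁ ⧸ K₁))
    refine ⟨C (↑hu.unit⁻¹ : A₁ ⧸ K₁) * P, ?_, ?_⟩
    · show Monic _
      rcases subsingleton_or_nontrivial (A₁ ⧸ K₁) with h | h
      · exact monic_of_subsingleton _
      rw [Monic, leadingCoeff_mul', leadingCoeff_C, leadingCoeff_map_of_leadingCoeff_ne_zero _ hu.ne_zero,
        IsUnit.val_inv_mul]
      rw [leadingCoeff_C, leadingCoeff_map_of_leadingCoeff_ne_zero _ hu.ne_zero, IsUnit.val_inv_mul]
      exact one_ne_zero
    · rw [← aeval_def, map_mul]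
      suffices h : aeval (φ x) P = 0 by rw [h, mul_zero]
      rw [aeval_map_algebraMap, aeval_algHom_apply, map_pow]
      show Ideal.Quotient.mk L (algebraMap B B₁ (aeval x (Q x) ^ N)) = 0
      rw [Ideal.Quotient.eq_zero_iff_mem]
      have h1 : aeval x (Q x) ^ N ∈ K.map (algebraMap A B) := by
        have := Ideal.pow_mem_pow (hTI x hx) N
        rw [← Ideal.map_pow] at this
        exact Ideal.map_mono hN this
      have h2 := Ideal.mem_map_of_mem (algebraMap B B₁) h1
      rwa [Ideal.map_map, ← IsScalarTower.algebraMap_eq, IsScalarTower.algebraMap_eq A A₁ B₁,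
        ← Ideal.map_map] at h2
  have hfin : (Subalgebra.toSubmodule S).FG :=
    fg_adjoin_of_finite (gens.finite_toSet.image _) (by rintro _ ⟨x, hx, rfl⟩; exact hint x hx)
  have hrange : ∀ b, φ b ∈ S := by
    intro b
    have : φ.range ≤ S.restrictScalars A := by
      rw [← Algebra.map_top, ← hgens, AlgHom.map_adjoin, Algebra.adjoin_le_iff]
      exact Algebra.subset_adjoin
    exact this ⟨b, rfl⟩
  have htop : S = ⊤ := by
    rw [eq_top_iff]
    rintro c -
    obtain ⟨c, rfl⟩ := Ideal.Quotient.mk_surjective c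
    obtain ⟨n, b, hb⟩ := IsLocalization.Away.surj (algebraMap A B f) c
    obtain ⟨v, hv⟩ := (IsLocalization.Away.algebraMap_isUnit (S := A₁) f).pow n
    have hc : c = algebraMap A₁ B₁ ↑v⁻¹ * algebraMap B B₁ b := by
      rw [← hb, ← IsScalarTower.algebraMap_apply, IsScalarTower.algebraMap_apply A A₁ B₁, ← map_pow, ← hv,
        mul_left_comm, ← map_mul, Units.inv_mul, map_one, mul_one]
    rw [hc, map_mul]
    exact S.mul_mem (S.algebraMap_mem (Ideal.Quotient.mk K₁ (↑v⁻¹ : A₁))) (hrange b)
  refine ⟨?_⟩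
  rw [htop, Algebra.top_toSubmodule] at hfin
  exact hfin

theorem away_quotient {R S : Type u} [CommRing R] [CommRing S] [Algebra R S] (t : R) [IsLocalization.Away t S]
    (I : Ideal R) (J : Ideal S) (hJ : J = I.map (algebraMap R S)) [Algebra (R ⧸ I) (S ⧸ J)]
    (h : ∀ x : R, algebraMap (R ⧸ I) (S ⧸ J) (Ideal.Quotient.mk I x) = Ideal.Quotient.mk J (algebraMap R S x)) :
    IsLocalization.Away (Ideal.Quotient.mk I t) (S ⧸ J) := by
  have H : IsLocalization ((Submonoid.powers t).map (Ideal.Quotient.mk I)) (S ⧸ J) :=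
    IsLocalization.of_surjective (Submonoid.powers t) S (Ideal.Quotient.mk I) Ideal.Quotient.mk_surjective
      (Ideal.Quotient.mk J) Ideal.Quotient.mk_surjective (RingHom.ext fun x => (h x).symm)
      (by rw [Ideal.mk_ker, Ideal.mk_ker, hJ])
  rwa [Submonoid.map_powers] at H

set_option backward.isDefEq.respectTransparency false in
/-- Step 2: a finite flat finitely presented algebra is free near any prime. -/
theorem exists_free [Algebra.FinitePresentation A B] [Module.Flat A B] {K : Ideal A} (hK : K.FG)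
    [Module.Finite (A ⧸ K) (B ⧸ K.map (algebraMap A B))] {g : B} (hg : g ≠ 0)
    (hKg : ∀ a ∈ K, algebraMap A B a * g = 0) :
    ∃ t : A, (∀ n : ℕ, algebraMap A B (t ^ n) * g ≠ 0) ∧
      ∀ (A₂ B₂ : Type u) [CommRing A₂] [CommRing B₂] [Algebra A A₂] [Algebra A B₂] [Algebra B B₂]
        [Algebra A₂ B₂] [IsScalarTower A A₂ B₂] [IsScalarTower A B B₂] [IsLocalization.Away t A₂]
        [IsLocalization.Away (algebraMap A B t) B₂],
        Module.Free (A₂ ⧸ K.map (algebraMap A A₂))
            (B₂ ⧸ (K.map (algebraMap A A₂)).map (algebraMap A₂ B₂)) ∧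
          Module.Finite (A₂ ⧸ K.map (algebraMap A A₂))
            (B₂ ⧸ (K.map (algebraMap A A₂)).map (algebraMap A₂ B₂)) := by
  classical
  let R := A ⧸ K
  let M := B ⧸ K.map (algebraMap A B)
  obtain ⟨p, hpm, hJp⟩ := Ideal.exists_le_maximal (Ideal.torsionOf A B g) (fun h => hg (by
    have := (Ideal.mem_torsionOf_iff g (1 : A)).mp (h ▸ Submodule.mem_top)
    rwa [one_smul] at this))
  haveI := hpm.isPrime
  have hJ : ∀ a, algebraMap A B a * g = 0 → a ∈ p := fun a ha =>
    hJp ((Ideal.mem_torsionOf_iff g a).mpr (by rwa [Algebra.smul_def]))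
  have hKp : K ≤ p := fun a ha => hJ a (hKg a ha)
  let p' : Ideal R := p.map (Ideal.Quotient.mk K)
  haveI : p'.IsPrime := Ideal.map_isPrime_of_surjective Ideal.Quotient.mk_surjective (by rwa [Ideal.mk_ker])
  let e : R ⊗[A] B ≃ₗ[R] M :=
    ((Algebra.TensorProduct.quotIdealMapEquivQuotTensor B K).symm).toLinearEquiv
  haveI : Module.Flat R M := Module.Flat.of_linearEquiv e.symm
  haveI : Algebra.FinitePresentation A M :=
    Algebra.FinitePresentation.quotient (hK.map (algebraMap A B))
  haveI : Algebra.FinitePresentation R M := Algebra.FinitePresentation.of_restrict_scalars_finitePresentation A R M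
  haveI : Module.FinitePresentation R M := Module.FinitePresentation.of_finite_of_finitePresentation R M
  haveI : Module.Free (Localization.AtPrime p') (LocalizedModule p'.primeCompl M) :=
    Module.free_of_flat_of_isLocalRing
  obtain ⟨r, hr, hfree, -⟩ := Module.FinitePresentation.exists_free_localizedModule_powers
    (M := M) p'.primeCompl (LocalizedModule.mkLinearMap p'.primeCompl M) (Localization.AtPrime p')
  obtain ⟨t, rfl⟩ := Ideal.Quotient.mk_surjective r
  have htp : t ∉ p := fun h => hr (Ideal.mem_map_of_mem _ h)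
  refine ⟨t, fun n h => htp (Ideal.IsPrime.mem_of_pow_mem inferInstance n (hJ _ h)), ?_⟩
  intro A₂ B₂ _ _ _ _ _ _ _ _ _ _
  let K₂ := K.map (algebraMap A A₂)
  let R₂ := A₂ ⧸ K₂
  let L₂ := K₂.map (algebraMap A₂ B₂)
  let M₂ := B₂ ⧸ L₂
  have hL : L₂ = (K.map (algebraMap A B)).map (algebraMap B B₂) := by
    simp only [L₂, K₂, Ideal.map_map, ← IsScalarTower.algebraMap_eq]
  letI : Algebra R R₂ := (Ideal.quotientMap K₂ (algebraMap A A₂) Ideal.le_comap_map).toAlgebra
  letI : Algebra M M₂ := (Ideal.quotientMap L₂ (algebraMap B B₂) (hL ▸ Ideal.le_comap_map)).toAlgebra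
  letI : Algebra R M₂ := ((algebraMap R₂ M₂).comp (algebraMap R R₂)).toAlgebra
  haveI : IsScalarTower R R₂ M₂ := IsScalarTower.of_algebraMap_eq' rfl
  haveI : IsScalarTower R M M₂ := IsScalarTower.of_algebraMap_eq fun x => by
    obtain ⟨a, rfl⟩ := Ideal.Quotient.mk_surjective x
    show Ideal.Quotient.mk L₂ (algebraMap A₂ B₂ (algebraMap A A₂ a)) =
      Ideal.Quotient.mk L₂ (algebraMap B B₂ (algebraMap A B a))
    rw [← IsScalarTower.algebraMap_apply A B B₂, ← IsScalarTower.algebraMap_apply A A₂ B₂]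
  haveI : IsLocalization.Away (Ideal.Quotient.mk K t : R) R₂ :=
    away_quotient t K K₂ rfl fun x => rfl
  haveI : IsLocalization (Algebra.algebraMapSubmonoid M (Submonoid.powers (Ideal.Quotient.mk K t : R))) M₂ := by
    rw [Algebra.algebraMapSubmonoid, Submonoid.map_powers]
    have h : IsLocalization.Away (Ideal.Quotient.mk (K.map (algebraMap A B)) (algebraMap A B t)) M₂ :=
      away_quotient (algebraMap A B t) (K.map (algebraMap A B)) L₂ hL fun x => rfl
    exact h
  haveI hloc : IsLocalizedModule (Submonoid.powers (Ideal.Quotient.mk K t : R))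
      (IsScalarTower.toAlgHom R M M₂).toLinearMap :=
    isLocalizedModule_iff_isLocalization.mpr inferInstance
  refine ⟨?_, Module.Finite.of_isLocalizedModule (Submonoid.powers (Ideal.Quotient.mk K t : R))
    (Rₚ := R₂) (IsScalarTower.toAlgHom R M M₂).toLinearMap⟩
  let S := Submonoid.powers (Ideal.Quotient.mk K t : R)
  let L := Localization S
  letI : Algebra L R₂ := (IsLocalization.Away.lift (S := L) (Ideal.Quotient.mk K t : R)
    (g := algebraMap R R₂) (IsLocalization.Away.algebraMap_isUnit _)).toAlgebra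
  haveI : IsScalarTower R L R₂ :=
    IsScalarTower.of_algebraMap_eq (R := R) (S := L) (A := R₂)
      fun x => (IsLocalization.Away.lift_eq _ _ x).symm
  letI : Algebra L M₂ := ((algebraMap R₂ M₂).comp (algebraMap L R₂)).toAlgebra
  haveI : IsScalarTower L R₂ M₂ := IsScalarTower.of_algebraMap_eq' rfl
  haveI : IsScalarTower R L M₂ := IsScalarTower.of_algebraMap_eq (R := R) (S := L) (A := M₂) fun x => by
    show algebraMap R₂ M₂ (algebraMap R R₂ x) = algebraMap R₂ M₂ (algebraMap L R₂ (algebraMap R L x))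
    rw [← IsScalarTower.algebraMap_apply R L R₂]
  let ψ : LocalizedModule S M →ₗ[R] M₂ :=
    (IsLocalizedModule.iso S (IsScalarTower.toAlgHom R M M₂).toLinearMap).toLinearMap
  let ψ' : LocalizedModule S M →ₗ[L] M₂ := ψ.extendScalarsOfIsLocalization S L
  have hb : IsBaseChange R₂ ψ' := by
    refine IsBaseChange.of_comp (IsLocalizedModule.isBaseChange S L (LocalizedModule.mkLinearMap S M)) ?_
    have : ψ'.restrictScalars R ∘ₗ LocalizedModule.mkLinearMap S M =
        (IsScalarTower.toAlgHom R M M₂).toLinearMap := LinearMap.ext fun x => IsLocalizedModule.iso_mk_one S _ x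
    rw [this]
    exact IsLocalizedModule.isBaseChange S R₂ _
  exact hb.free

/-- Step 3: the injective map. -/
theorem exists_injective_map [Module.Flat A B] {K : Ideal A} (hK : K.FG)
    [Module.Free (A ⧸ K) (B ⧸ K.map (algebraMap A B))] [Module.Finite (A ⧸ K) (B ⧸ K.map (algebraMap A B))]
    {g : B} (hg : g ≠ 0) (hKg : ∀ a ∈ K, algebraMap A B a * g = 0) :
    ∃ (F : Ideal A) (r : ℕ), 0 < r ∧
      ∃ φ : (Fin r → ↥F) →ₗ[A] B, Function.Injective φ ∧ g ∈ LinearMap.range φ := by
  classical
  let R := A ⧸ K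
  let KB := K.map (algebraMap A B)
  obtain ⟨Ks, hKs⟩ := hK
  let m : A →ₗ[A] (↥Ks → A) := LinearMap.pi fun i => LinearMap.mulRight A (i : A)
  let F : Ideal A := LinearMap.ker m
  have hF : ∀ x : A, x ∈ F ↔ ∀ i : ↥Ks, x * i = 0 := fun x => by
    simp [F, m, funext_iff]
  have hFK : ∀ x ∈ F, ∀ a ∈ K, x * a = 0 := by
    intro x hx a ha
    rw [← hKs] at ha
    induction ha using Submodule.span_induction with
    | mem y hy => exact (hF x).mp hx ⟨y, hy⟩
    | zero => simp
    | add y z _ _ hy hz => rw [mul_add, hy, hz, add_zero]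
    | smul c y _ hy => rw [smul_eq_mul, mul_left_comm, hy, mul_zero]
  let r := Module.finrank R (B ⧸ KB)
  rcases subsingleton_or_nontrivial R with hR | hR
  · exfalso
    have h1 : (1 : A) ∈ K := Ideal.Quotient.eq_zero_iff_mem.mp (Subsingleton.elim _ _)
    have := hKg 1 h1
    rw [map_one, one_mul] at this
    exact hg this
  let b := Module.finBasis R (B ⧸ KB)
  choose e he using fun j => Ideal.Quotient.mk_surjective (b j)
  let φ : (Fin r → ↥F) →ₗ[A] B := ∑ j, ((LinearMap.toSpanSingleton A B (e j)).comp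
    F.subtype).comp (LinearMap.proj j)
  have hφ : ∀ v, φ v = ∑ j, (v j : A) • e j := fun v => by
    simp [φ, LinearMap.sum_apply]
    exact Finset.sum_congr rfl fun j _ => rfl
  -- coordinates
  let c : B → Fin r → A := fun x j => (Ideal.Quotient.mk_surjective (b.repr (Ideal.Quotient.mk KB x) j)).choose
  have hc : ∀ x j, Ideal.Quotient.mk K (c x j) = b.repr (Ideal.Quotient.mk KB x) j := fun x j =>
    (Ideal.Quotient.mk_surjective (b.repr (Ideal.Quotient.mk KB x) j)).choose_spec
  have hmul : ∀ (x : F) (a a' : A), Ideal.Quotient.mk K a = Ideal.Quotient.mk K a' → (x : A) * a = x * a' := by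
    intro x a a' h
    rw [← sub_eq_zero, ← mul_sub]
    exact hFK _ x.2 _ (Ideal.Quotient.eq.mp h)
  have hsm : ∀ (a : A) (x : B), Ideal.Quotient.mk KB (a • x) = Ideal.Quotient.mk K a • Ideal.Quotient.mk KB x := by
    intro a x
    rw [Algebra.smul_def, Algebra.smul_def, map_mul]
    rfl
  let β : ↥F →ₗ[A] B →ₗ[A] (Fin r → ↥F) := LinearMap.mk₂ A
    (fun x y => fun j => c y j • x)
    (fun x x' y => funext fun j => smul_add _ _ _)
    (fun a x y => funext fun j => smul_comm _ _ _)
    (fun x y y' => funext fun j => Subtype.ext (by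
      show c (y + y') j * (x : A) = c y j * (x : A) + c y' j * (x : A)
      rw [← add_mul, mul_comm, mul_comm (_ + _) (x : A)]
      exact hmul x _ _ (by simp [hc])))
    (fun a x y => funext fun j => Subtype.ext (by
      show c (a • y) j * (x : A) = a * (c y j * (x : A))
      rw [← mul_assoc, mul_comm, mul_comm (a * _) (x : A)]
      refine hmul x _ _ ?_
      rw [map_mul, hc, hc, hsm, map_smul]
      rfl))
  let ι : ↥F ⊗[A] B →ₗ[A] B := (TensorProduct.lid A B).toLinearMap ∘ₗ LinearMap.rTensor B F.subtype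
  have hι : ∀ (x : F) (y : B), ι (x ⊗ₜ y) = (x : A) • y := fun x y => by simp [ι]
  have hιinj : Function.Injective ι :=
    (TensorProduct.lid A B).injective.comp
      (Module.Flat.rTensor_preserves_injective_linearMap F.subtype F.subtype_injective)
  refine ⟨F, r, ?_, φ, ?_, ?_⟩
  · rw [pos_iff_ne_zero]
    intro h0
    haveI : Subsingleton (B ⧸ KB) := by
      haveI : IsEmpty (Fin r) := by rw [h0]; infer_instance
      exact b.repr.toEquiv.subsingleton
    apply hg
    have h1 : (1 : B) ∈ KB := Ideal.Quotient.eq_zero_iff_mem.mp (Subsingleton.elim _ _)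
    suffices h : KB ≤ LinearMap.ker (LinearMap.mulRight B g) by simpa using h h1
    rw [Ideal.map_le_iff_le_comap]
    intro a ha
    exact hKg a ha
  · rw [injective_iff_map_eq_zero]
    intro v hv
    have hz : (∑ j, v j ⊗ₜ[A] e j) = (0 : ↥F ⊗[A] B) := hιinj (by
      rw [map_sum, map_zero, ← hv, hφ]
      exact Finset.sum_congr rfl fun j _ => hι _ _)
    funext i
    have h1 := congrFun (congrArg (TensorProduct.lift β) hz) i
    rw [map_sum, map_zero, Finset.sum_apply] at h1
    rw [← h1]
    rw [Finset.sum_eq_single i]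
    · rw [TensorProduct.lift.tmul]
      apply Subtype.ext
      show (v i : A) = c (e i) i * (v i : A)
      rw [mul_comm]
      conv_lhs => rw [← mul_one (v i : A)]
      exact hmul _ _ _ (by rw [hc, he, b.repr_self]; simp)
    · intro j _ hj
      rw [TensorProduct.lift.tmul]
      apply Subtype.ext
      show c (e j) i * (v j : A) = 0
      rw [mul_comm, ← mul_zero (v j : A)]
      exact hmul _ _ _ (by rw [hc, he, b.repr_self, map_zero, Finsupp.single_eq_of_ne hj.symm])
    · simp
  · -- the kernel of `B → B ^ Ks` is the image of `F ⊗ B`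
    have hex : Function.Exact F.subtype m := LinearMap.exact_subtype_ker_map m
    have hex' := Module.Flat.rTensor_exact B hex
    have hm : LinearMap.rTensor B m ((TensorProduct.lid A B).symm g) = 0 := by
      apply (TensorProduct.piLeft A B (fun _ : ↥Ks => A)).injective
      rw [map_zero]
      funext i
      apply (TensorProduct.lid A B).injective
      rw [TensorProduct.lid_symm_apply, LinearMap.rTensor_tmul]
      simp [m, Algebra.smul_def]
      exact hKg _ (hKs ▸ Ideal.subset_span i.2)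
    obtain ⟨w, hw⟩ := (hex' _).mp hm
    have hιw : ι w = g := by
      show TensorProduct.lid A B (LinearMap.rTensor B F.subtype w) = g
      rw [hw, LinearEquiv.apply_symm_apply]
    rw [← hιw]
    clear hw hιw
    induction w using TensorProduct.induction_on with
    | zero => exact ⟨0, by simp⟩
    | add x y hx hy => rw [map_add]; exact Submodule.add_mem _ hx hy
    | tmul x y =>
      refine ⟨β x y, ?_⟩
      rw [hι, hφ]
      have hy : y - ∑ j, c y j • e j ∈ KB := by
        rw [← Ideal.Quotient.eq, map_sum]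
        conv_lhs => rw [← b.sum_repr (Ideal.Quotient.mk KB y)]
        exact Finset.sum_congr rfl fun j _ => by rw [hsm, he, hc]
      have hx0 : (x : A) • (y - ∑ j, c y j • e j) = 0 := by
        revert hy
        generalize y - ∑ j, c y j • e j = z
        intro hz
        rw [Algebra.smul_def]
        suffices h : KB ≤ LinearMap.ker (LinearMap.mulLeft B (algebraMap A B x)) from h hz
        rw [Ideal.map_le_iff_le_comap]
        intro a ha
        show algebraMap A B x * algebraMap A B a = 0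
        rw [← map_mul, hFK _ x.2 a ha, map_zero]
      rw [smul_sub, sub_eq_zero, Finset.smul_sum] at hx0
      rw [hx0]
      refine Finset.sum_congr rfl fun j _ => ?_
      show (c y j * (x : A)) • e j = (x : A) • c y j • e j
      rw [smul_smul, mul_comm]

end Groth.Agent.QFStratum
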